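import Cfsg.Agent.SquareRoots.Basic
import Cfsg.Agent.Blocks.Height
import Cfsg.Agent.Blocks.RegularSupport
import Cfsg.Agent.Characters.Linear
import Cfsg.Agent.Characters.Classes

/-!
# Counting involutions with characters
-/

set_option autoImplicit false
set_option linter.style.haveILetI false
set_option linter.unusedSectionVars false

namespace CfsgLib.InvolutionCount

open Cfsg
open scoped ComplexConjugate

universe u

variable {G : Type u} [Group G] [Fintype G]

open Classical in
theorem card_sq_eq_one : Nat.card {x : G // x * x = 1} = Nat.card {x : G // orderOf x = 2} + 1 := by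
  classical
  rw [Nat.card_eq_fintype_card, Nat.card_eq_fintype_card, Fintype.card_subtype,
    Fintype.card_subtype]
  have h : (Finset.univ.filter fun x : G => x * x = 1) =
      insert 1 (Finset.univ.filter fun x : G => orderOf x = 2) := by
    ext x
    simp only [Finset.mem_filter, Finset.mem_univ, true_and, Finset.mem_insert]
    rw [orderOf_eq_prime_iff, pow_two]
    by_cases hx : x = 1 <;> simp [hx]
  rw [h, Finset.card_insert_of_notMem (by simp)]

/-- The Frobenius–Schur count of involutions. -/
theorem involution_sum :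
    (Nat.card {x : G // orderOf x = 2} : ℂ) + 1 =
      ∑ χ : Cfsg.IrrCharacter G, SquareRoots.indicator (χ : G → ℂ) * (χ : G → ℂ) 1 := by
  rw [← SquareRoots.card_sqrt_eq, card_sq_eq_one, Nat.cast_add, Nat.cast_one]

theorem indicator_one : SquareRoots.indicator (fun _ : G => (1 : ℂ)) = 1 := by
  rw [SquareRoots.indicator, finsum_eq_sum_of_fintype, Finset.sum_const, Finset.card_univ,
    ← Nat.card_eq_fintype_card, nsmul_eq_mul, mul_one,
    inv_mul_cancel₀ (Nat.cast_ne_zero.2 Nat.card_pos.ne')]

open Classical in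
/-- The real characters other than the principal one. -/
noncomputable def realNonprincipal : Finset (Cfsg.IrrCharacter G) :=
  Finset.univ.filter fun χ => (χ : G → ℂ) ≠ (fun _ => 1) ∧ ∀ g : G, ((χ : G → ℂ) g).im = 0

theorem isPrincipal_one : Cfsg.IsIrrCharacter G (fun _ : G => (1 : ℂ)) :=
  CfsgLib.Characters.isIrr_one

open Classical in
/-- The number of involutions is at most the sum of the degrees of the real nonprincipal
characters. -/
theorem involutions_le_sum :
    Nat.card {x : G // orderOf x = 2} ≤
      ∑ χ ∈ realNonprincipal (G := G), Cfsg.charDegree (χ : G → ℂ) := by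
  set t := Nat.card {x : G // orderOf x = 2}
  set one : Cfsg.IrrCharacter G := ⟨_, isPrincipal_one⟩
  have h := involution_sum (G := G)
  rw [← Finset.add_sum_erase _ _ (Finset.mem_univ one), show ((one : Cfsg.IrrCharacter G) :
    G → ℂ) = fun _ => 1 from rfl, indicator_one, mul_one, add_comm, add_right_inj] at h
  have key : ∀ χ ∈ (Finset.univ : Finset (Cfsg.IrrCharacter G)).erase one,
      (SquareRoots.indicator (χ : G → ℂ) * (χ : G → ℂ) 1).re ≤
        if χ ∈ realNonprincipal then (Cfsg.charDegree (χ : G → ℂ) : ℝ) else 0 := by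
    intro χ hχ
    rw [← Blocks.charDegree_cast]
    by_cases hr : ∀ g : G, ((χ : G → ℂ) g).im = 0
    · have hm : χ ∈ realNonprincipal := by
        refine Finset.mem_filter.2 ⟨Finset.mem_univ _, fun he => ?_, hr⟩
        exact (Finset.mem_erase.1 hχ).1 (Subtype.ext he)
      rw [if_pos hm]
      rcases SquareRoots.indicator_cases χ.2 with e | e | e <;> rw [e] <;> simp
    · rw [SquareRoots.indicator_eq_zero_of_not_real χ.2 hr,
        if_neg fun hm => hr (Finset.mem_filter.1 hm).2.2]
      simp
  have h1 : (t : ℝ) ≤ ∑ χ ∈ (Finset.univ : Finset (Cfsg.IrrCharacter G)).erase one,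
      if χ ∈ realNonprincipal then (Cfsg.charDegree (χ : G → ℂ) : ℝ) else 0 := by
    have := congrArg Complex.re h
    rw [Complex.natCast_re, Complex.re_sum] at this
    rw [this]
    exact Finset.sum_le_sum key
  have h2 : ∑ χ ∈ (Finset.univ : Finset (Cfsg.IrrCharacter G)).erase one,
      (if χ ∈ realNonprincipal then (Cfsg.charDegree (χ : G → ℂ) : ℝ) else 0) ≤
        ((∑ χ ∈ realNonprincipal (G := G), Cfsg.charDegree (χ : G → ℂ) : ℕ) : ℝ) := by
    rw [← Finset.sum_filter, Nat.cast_sum]
    exact Finset.sum_le_sum_of_subset_of_nonneg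
      (fun χ hχ => (Finset.mem_filter.1 hχ).2) fun _ _ _ => Nat.cast_nonneg _
  exact_mod_cast h1.trans h2

open Classical in
theorem sum_sq_realNonprincipal :
    ∑ χ ∈ realNonprincipal (G := G), Cfsg.charDegree (χ : G → ℂ) ^ 2 + 1 ≤ Nat.card G := by
  set one : Cfsg.IrrCharacter G := ⟨_, isPrincipal_one⟩
  have h1 : ∑ χ : Cfsg.IrrCharacter G, Cfsg.charDegree (χ : G → ℂ) ^ 2 = Nat.card G := by
    have := Characters.sum_degree_sq (G := G)
    simp only [← Blocks.charDegree_cast] at this
    exact_mod_cast this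
  have h2 : Cfsg.charDegree ((one : Cfsg.IrrCharacter G) : G → ℂ) = 1 := by
    have := Blocks.charDegree_cast one
    rw [show ((one : Cfsg.IrrCharacter G) : G → ℂ) 1 = ((1 : ℕ) : ℂ) from Nat.cast_one.symm] at this
    exact Nat.cast_injective this
  have h3 : one ∉ realNonprincipal := fun hm => (Finset.mem_filter.1 hm).2.1 rfl
  rw [← h1]
  calc _ = ∑ χ ∈ insert one (realNonprincipal (G := G)), Cfsg.charDegree (χ : G → ℂ) ^ 2 := by
        rw [Finset.sum_insert h3, h2, one_pow, add_comm]
    _ ≤ _ := Finset.sum_le_sum_of_subset (Finset.subset_univ _)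

theorem card_realNonprincipal_lt :
    (realNonprincipal (G := G)).card < Nat.card (ConjClasses G) := by
  rw [← Characters.card_irrCharacter, Nat.card_eq_fintype_card]
  refine Finset.card_lt_univ_of_notMem (x := ⟨_, isPrincipal_one⟩) fun hm => ?_
  classical
  exact (Finset.mem_filter.1 hm).2.1 rfl

/-- A character of p-defect zero vanishes at p-singular elements. -/
theorem char_eq_zero_of_dvd_orderOf {p : ℕ} [Fact p.Prime] (χ : Cfsg.IrrCharacter G)
    (h : p ^ (Nat.card G).factorization p ∣ Cfsg.charDegree (χ : G → ℂ)) {y : G}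
    (hy : p ∣ orderOf y) : (χ : G → ℂ) y = 0 := by
  classical
  obtain ⟨M, hM⟩ := Blocks.exists_isPModular p Fact.out
  haveI := Blocks.IsPModular.isPrime hM
  have hnd : ¬ p ∣ Nat.card G / Cfsg.charDegree (χ : G → ℂ) := by
    obtain ⟨m, hm⟩ := h
    have hd := Blocks.charDegree_dvd_card χ
    intro hp
    have := Nat.mul_dvd_mul hp (dvd_refl (Cfsg.charDegree (χ : G → ℂ)))
    rw [Nat.div_mul_cancel hd, hm, ← mul_assoc, ← pow_succ'] at this
    exact Nat.pow_succ_factorization_not_dvd Nat.card_pos.ne' (Fact.out : p.Prime)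
      ((dvd_mul_right _ _).trans this)
  have hA : Blocks.IsBlockUnion M ({χ} : Set (Cfsg.IrrCharacter G)) :=
    (Blocks.defect_zero_iff hM χ).1 hnd ▸
      Blocks.isBlockUnion_of_isPBlock (Blocks.isPBlock_blockOf χ)
  have := Blocks.blockCoeff_eq_zero_of_singular hM hA hy
  have e : Cfsg.blockCoeff ({χ} : Set (Cfsg.IrrCharacter G)) y =
      (Nat.card G : ℂ)⁻¹ * ((χ : G → ℂ) 1 * conj ((χ : G → ℂ) y)) := by
    rw [Blocks.blockCoeff_eq_sum]
    congr 1
    refine (Finset.sum_eq_single_of_mem χ (Finset.mem_univ χ) fun ψ _ hψ => ?_).trans ?_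
    · exact if_neg (by simpa using hψ)
    · exact if_pos (Set.mem_singleton χ)
  rw [e] at this
  simpa [Characters.irr_one_ne_zero χ.2] using this

end CfsgLib.InvolutionCount
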