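import Cfsg.Agent.SquareRoots.Basic
import Cfsg.Agent.Characters.Classes

/-!
# Invariant bilinear forms of real characters
-/

set_option autoImplicit false
set_option linter.style.haveILetI false
set_option linter.unusedSectionVars false

namespace CfsgLib.InvolutionCount

open scoped ComplexConjugate
open Matrix CfsgLib.SquareRoots

universe u

variable {G : Type u} [Group G] [Fintype G] {n : ℕ}

/-- `g ↦ X(g⁻¹)ᵀ`. -/
noncomputable def dualRep (ρ : Representation ℂ G (Fin n → ℂ)) :
    Representation ℂ G (Fin n → ℂ) where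
  toFun g := Matrix.toLin' (LinearMap.toMatrix' (ρ g⁻¹))ᵀ
  map_one' := by
    rw [inv_one, map_one, show LinearMap.toMatrix' (1 : Module.End ℂ (Fin n → ℂ)) = 1 from
      LinearMap.toMatrix'_id, Matrix.transpose_one, Matrix.toLin'_one]
    rfl
  map_mul' g h := by
    rw [_root_.mul_inv_rev, map_mul, LinearMap.toMatrix'_mul, Matrix.transpose_mul,
      Matrix.toLin'_mul]
    rfl

theorem toMatrix'_dualRep (ρ : Representation ℂ G (Fin n → ℂ)) (g : G) :
    LinearMap.toMatrix' (dualRep ρ g) = (LinearMap.toMatrix' (ρ g⁻¹))ᵀ :=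
  LinearMap.toMatrix'_toLin' _

theorem character_dualRep (ρ : Representation ℂ G (Fin n → ℂ)) (g : G) :
    (dualRep ρ).character g = ρ.character g⁻¹ := by
  rw [char_eq_trace, char_eq_trace, toMatrix'_dualRep]
  simp

/-- The invariant forms of a real irreducible character form a line, with symmetry the
indicator. -/
theorem invariant_forms (ρ : Representation ℂ G (Fin n → ℂ)) (hirr : ρ.IsIrreducible)
    (hreal : ∀ g : G, (ρ.character g).im = 0) :
    (∃ M : Matrix (Fin n) (Fin n) ℂ, M ≠ 0 ∧ ∀ g : G,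
        (LinearMap.toMatrix' (ρ g))ᵀ * M * LinearMap.toMatrix' (ρ g) = M) ∧
      ∀ M : Matrix (Fin n) (Fin n) ℂ, (∀ g : G,
        (LinearMap.toMatrix' (ρ g))ᵀ * M * LinearMap.toMatrix' (ρ g) = M) →
          Mᵀ = ((Nat.card G : ℂ)⁻¹ * ∑ s : G, ρ.character (s * s)) • M := by
  classical
  letI := invertibleOfNonzero (CfsgLib.Characters.natCard_ne_zero (G := G))
  haveI : Invertible (Fintype.card G : ℂ) := by
    rw [Fintype.card_eq_nat_card]; infer_instance
  set σ := sqRep (dualRep ρ) with hσ
  have hinv : ∀ M : Matrix (Fin n) (Fin n) ℂ, (∀ g : G,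
      (LinearMap.toMatrix' (ρ g))ᵀ * M * LinearMap.toMatrix' (ρ g) = M) ↔
        M ∈ σ.invariants := by
    intro M
    simp only [hσ, Representation.mem_invariants, sqRep_apply, toMatrix'_dualRep,
      Matrix.transpose_transpose]
    exact ⟨fun h g => h g⁻¹, fun h g => by simpa using h g⁻¹⟩
  set P := σ.averageMap with hP
  have hproj := Representation.isProj_averageMap (ρ := σ)
  have hPval : P = (Nat.card G : ℂ)⁻¹ • ∑ g : G, σ g := by
    rw [hP, Representation.averageMap, GroupAlgebra.average, map_smul, map_sum, invOf_eq_inv,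
      Nat.card_eq_fintype_card]
    simp [Representation.asAlgebraHom]
  set ν := (Nat.card G : ℂ)⁻¹ * ∑ s : G, ρ.character (s * s) with hν'
  have hν : LinearMap.trace ℂ _ (transposeLin n ∘ₗ P) = ν := by
    rw [hPval, LinearMap.comp_smul, map_smul, smul_eq_mul, ← Module.End.mul_eq_comp,
      Finset.mul_sum, map_sum]
    simp only [Module.End.mul_eq_comp, hσ, trace_transpose_sqRep, character_dualRep,
      _root_.mul_inv_rev]
    rw [hν']
    congr 1
    exact Fintype.sum_equiv (Equiv.inv G) _ _ fun g => rfl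
  have hrank : (Module.finrank ℂ σ.invariants : ℂ) = 1 := by
    rw [← Representation.card_inv_mul_sum_char_eq_finrank,
      ← Characters.classInner_isIrr_self (Characters.isIrrCharacter_character ρ (h := hirr)),
      Cfsg.classInner]
    congr 1
    refine Fintype.sum_equiv (Equiv.inv G) _ _ fun g => ?_
    rw [hσ, char_sqRep, character_dualRep, Equiv.inv_apply, Complex.conj_eq_iff_im.2 (hreal _)]
  rw [← Nat.cast_one, Nat.cast_inj] at hrank
  obtain ⟨⟨J, hJ⟩, hJ0, hJspan⟩ := finrank_eq_one_iff'.1 hrank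
  have hJT : Jᵀ ∈ σ.invariants := by
    intro g
    have := congrArg Matrix.transpose (hJ g)
    rw [sqRep_apply, Matrix.transpose_mul, Matrix.transpose_mul, Matrix.transpose_transpose,
      ← Matrix.mul_assoc] at this
    rw [sqRep_apply]
    exact this
  obtain ⟨ε, hε⟩ := hJspan ⟨Jᵀ, hJT⟩
  have hεJ : ε • J = Jᵀ := congrArg Subtype.val hε
  have hcomp : transposeLin n ∘ₗ P = ε • P := by
    refine LinearMap.ext fun E => ?_
    obtain ⟨c, hc⟩ := hJspan ⟨P E, hproj.map_mem E⟩
    have hc' : c • J = P E := congrArg Subtype.val hc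
    rw [LinearMap.comp_apply, transposeLin_apply, LinearMap.smul_apply, ← hc',
      Matrix.transpose_smul, ← hεJ, smul_comm]
  have hεν : ε = ν := by
    rw [← hν, hcomp, map_smul, hP, hproj.trace, hrank, Nat.cast_one, smul_eq_mul, mul_one]
  refine ⟨⟨J, fun h => hJ0 (Subtype.ext h), (hinv J).2 hJ⟩, fun M hM => ?_⟩
  obtain ⟨c, hc⟩ := hJspan ⟨M, (hinv M).1 hM⟩
  have hc' : c • J = M := congrArg Subtype.val hc
  rw [← hc', Matrix.transpose_smul, ← hεJ, hεν, smul_comm]

end CfsgLib.InvolutionCount
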