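import Cfsg.Agent.InvolutionCount.InvariantForm
import Mathlib.LinearAlgebra.Matrix.PosDef
import Mathlib.LinearAlgebra.Complex.FiniteDimensional

/-!
# Characters of indicator one are afforded by real representations
-/

set_option autoImplicit false
set_option linter.style.haveILetI false
set_option linter.unusedSectionVars false

namespace CfsgLib.InvolutionCount

open scoped ComplexConjugate ComplexOrder
open Matrix CfsgLib.SquareRoots

universe u

variable {G : Type u} [Group G] [Fintype G] {n : ℕ}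

section Matrices

variable (X : G → Matrix (Fin n) (Fin n) ℂ)

theorem star_transpose_mulVec (A : Matrix (Fin n) (Fin n) ℂ) (u : Fin n → ℂ) :
    star (Aᵀ *ᵥ u) = Aᴴ *ᵥ star u := by
  ext i
  simp [Matrix.mulVec, dotProduct]

/-- The sum of the pulled back standard forms. -/
noncomputable def avgForm : Matrix (Fin n) (Fin n) ℂ := ∑ g : G, (X g)ᴴ * X g

theorem avgForm_posDef (hX : ∀ g, X g * X g⁻¹ = 1) : (avgForm X).PosDef := by
  have hinj : ∀ g, Function.Injective (X g).mulVec := fun g v w h => by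
    have h2 : X g⁻¹ * X g = 1 := by simpa using hX g⁻¹
    have := congrArg (fun u => X g⁻¹ *ᵥ u) h
    simpa [Matrix.mulVec_mulVec, h2] using this
  refine Finset.sum_induction_nonempty _ (fun A : Matrix (Fin n) (Fin n) ℂ => A.PosDef)
    (fun A B hA hB => hA.add hB)
    Finset.univ_nonempty fun g _ => ?_
  simpa using Matrix.PosDef.one.conjTranspose_mul_mul_same (hinj g)

theorem avgForm_inv (hmul : ∀ g h, X (g * h) = X g * X h) (g : G) :
    (X g)ᴴ * avgForm X * X g = avgForm X := by
  rw [avgForm, Finset.mul_sum, Finset.sum_mul]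
  refine Fintype.sum_equiv (Equiv.mulRight g) _ _ fun h => ?_
  simp [hmul, Matrix.conjTranspose_mul, Matrix.mul_assoc]

end Matrices

/-- A real structure commuting with the group gives a real representation with the same
character. -/
theorem exists_real_rep (ρ : Representation ℂ G (Fin n → ℂ)) (C : (Fin n → ℂ) → (Fin n → ℂ))
    (hadd : ∀ v w, C (v + w) = C v + C w) (hsmul : ∀ (c : ℂ) v, C (c • v) = conj c • C v)
    (hinv : ∀ v, C (C v) = v) (hcomm : ∀ g v, C (ρ g v) = ρ g (C v)) :
    ∃ (m : ℕ) (σ : Representation ℝ G (Fin m → ℝ)), ∀ g : G,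
      ((LinearMap.trace ℝ (Fin m → ℝ) (σ g) : ℝ) : ℂ) = ρ.character g := by
  classical
  let W : Submodule ℝ (Fin n → ℂ) :=
    { carrier := {v | C v = v}
      add_mem' := fun {a b} ha hb => by
        simp only [Set.mem_setOf_eq] at ha hb ⊢
        rw [hadd, ha, hb]
      zero_mem' := by
        have h := hsmul 0 0
        simpa using h
      smul_mem' := fun c v hv => by
        simp only [Set.mem_setOf_eq] at hv ⊢
        rw [← Complex.coe_smul, hsmul, Complex.conj_ofReal, hv] }
  have hW : ∀ v, v ∈ W ↔ C v = v := fun v => Iff.rfl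
  haveI : FiniteDimensional ℝ (Fin n → ℂ) := inferInstance
  set b := Module.finBasis ℝ W with hb
  set v : Fin (Module.finrank ℝ W) → (Fin n → ℂ) := fun i => ((b i : W) : Fin n → ℂ) with hv
  have hfix : ∀ i, C (v i) = v i := fun i => (hW _).1 (b i).2
  have hsum : ∀ (s : Finset (Fin (Module.finrank ℝ W))) (z : Fin (Module.finrank ℝ W) → ℂ),
      C (∑ i ∈ s, z i • v i) = ∑ i ∈ s, conj (z i) • v i := by
    intro s z
    induction s using Finset.induction_on with
    | empty => simpa using (hW 0).1 W.zero_mem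
    | insert a s ha ih =>
      rw [Finset.sum_insert ha, Finset.sum_insert ha, hadd, ih, hsmul, hfix]
  have hcoe : ∀ (r : Fin (Module.finrank ℝ W) → ℝ),
      ((∑ i, r i • b i : W) : Fin n → ℂ) = ∑ i, (r i : ℂ) • v i := fun r => by
    simp [hv, Complex.coe_smul]
  have hli : LinearIndependent ℂ v := by
    rw [Fintype.linearIndependent_iff]
    intro z hz
    have hz' := congrArg C hz
    rw [hsum, show C 0 = 0 from (hW 0).1 W.zero_mem] at hz'
    have key : ∀ r : Fin (Module.finrank ℝ W) → ℝ, ∑ i, (r i : ℂ) • v i = 0 → ∀ i, r i = 0 :=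
      fun r hr => Fintype.linearIndependent_iff.1 b.linearIndependent r
        (Subtype.ext (by rw [hcoe, hr]; rfl))
    have hre : ∀ i, (z i).re = 0 := key _ (by
      have h2 : ∑ i, ((z i + conj (z i)) / 2) • v i = 0 := by
        simp only [div_eq_inv_mul, mul_smul, add_smul, ← Finset.smul_sum, Finset.sum_add_distrib,
          hz, hz', add_zero, smul_zero]
      refine (Finset.sum_congr rfl fun i _ => ?_).trans h2
      rw [Complex.add_conj]; simp)
    have him : ∀ i, (z i).im = 0 := key _ (by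
      have h2 : ∑ i, ((z i - conj (z i)) / (2 * Complex.I)) • v i = 0 := by
        simp only [div_eq_inv_mul, mul_smul, sub_smul, ← Finset.smul_sum, Finset.sum_sub_distrib,
          hz, hz', sub_zero, smul_zero]
      refine (Finset.sum_congr rfl fun i _ => ?_).trans h2
      rw [Complex.sub_conj]; congr 1
      field_simp
      push_cast
      ring)
    exact fun i => Complex.ext (hre i) (him i)
  have hspan : ⊤ ≤ Submodule.span ℂ (Set.range v) := by
    intro x _
    have hmem : ∀ w ∈ W, w ∈ Submodule.span ℂ (Set.range v) := fun w hw => by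
      have h := hcoe fun i => b.repr ⟨w, hw⟩ i
      rw [b.sum_repr] at h
      rw [show w = ((⟨w, hw⟩ : W) : Fin n → ℂ) from rfl, h]
      exact Submodule.sum_mem _ fun i _ =>
        Submodule.smul_mem _ _ (Submodule.subset_span ⟨i, rfl⟩)
    have h1 : x + C x ∈ W := by rw [hW, hadd, hinv, add_comm]
    have h2 : Complex.I • (x - C x) ∈ W := by
      rw [hW, hsmul, sub_eq_add_neg, hadd, ← neg_one_smul ℂ (C x), hsmul, hinv, map_neg, map_one,
        Complex.conj_I]
      module
    have e : x = (1 / 2 : ℂ) • (x + C x) + (-Complex.I / 2) • (Complex.I • (x - C x)) := by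
      rw [smul_smul, show -Complex.I / 2 * Complex.I = (1 / 2 : ℂ) by
        rw [div_mul_eq_mul_div, neg_mul, Complex.I_mul_I, neg_neg]]
      module
    rw [e]
    exact Submodule.add_mem _ (Submodule.smul_mem _ _ (hmem _ h1))
      (Submodule.smul_mem _ _ (hmem _ h2))
  set bC := Module.Basis.mk hli hspan with hbC
  let σW : Representation ℝ G W :=
    { toFun := fun g => ((ρ g).restrictScalars ℝ).restrict (p := W) (q := W) fun w hw => by
        rw [hW] at hw ⊢
        simp only [LinearMap.restrictScalars_apply]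
        rw [hcomm, hw]
      map_one' := LinearMap.ext fun w => Subtype.ext (by
        show ρ 1 (w : Fin n → ℂ) = _
        simp)
      map_mul' := fun g h => LinearMap.ext fun w => Subtype.ext (by
        show ρ (g * h) (w : Fin n → ℂ) = ρ g (ρ h (w : Fin n → ℂ))
        simp) }
  refine ⟨_, Characters.transport σW b.equivFun, fun g => ?_⟩
  rw [show LinearMap.trace ℝ _ (Characters.transport σW b.equivFun g) =
      LinearMap.trace ℝ W (σW g) from congrFun (Characters.char_transport σW b.equivFun) g,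
    Representation.character, LinearMap.trace_eq_matrix_trace ℝ b,
    LinearMap.trace_eq_matrix_trace ℂ bC, Matrix.trace, Matrix.trace, Complex.ofReal_sum]
  refine Finset.sum_congr rfl fun i _ => ?_
  simp only [Matrix.diag, LinearMap.toMatrix_apply]
  have h := hcoe fun j => b.repr (σW g (b i)) j
  rw [b.sum_repr] at h
  have h2 : ρ g (bC i) = ∑ j, ((b.repr (σW g (b i)) j : ℝ) : ℂ) • bC j := by
    simp only [hbC, Module.Basis.mk_apply]
    exact h
  rw [h2, bC.repr_sum_self]

/-- Indicator one forces a real representation. -/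
theorem exists_real_rep_of_indicator_one (ρ : Representation ℂ G (Fin n → ℂ))
    (hirr : ρ.IsIrreducible)
    (hν : (Nat.card G : ℂ)⁻¹ * ∑ s : G, ρ.character (s * s) = 1) :
    ∃ (m : ℕ) (σ : Representation ℝ G (Fin m → ℝ)), ∀ g : G,
      ((LinearMap.trace ℝ (Fin m → ℝ) (σ g) : ℝ) : ℂ) = ρ.character g := by
  classical
  haveI := hirr
  have hreal : ∀ g : G, (ρ.character g).im = 0 := by
    by_contra h
    have h0 := indicator_eq_zero_of_not_real (Characters.isIrrCharacter_character ρ) h
    rw [indicator, finsum_eq_sum_of_fintype, hν] at h0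
    exact one_ne_zero h0
  obtain ⟨⟨J, hJ0, hJ⟩, hsym⟩ := invariant_forms ρ hirr hreal
  have hJT : Jᵀ = J := by rw [hsym J hJ, hν, one_smul]
  set X : G → Matrix (Fin n) (Fin n) ℂ := fun g => LinearMap.toMatrix' (ρ g) with hX
  have hmul : ∀ g h, X (g * h) = X g * X h := fun g h => by
    simp only [hX, map_mul, LinearMap.toMatrix'_mul]
  have hone : ∀ g, X g * X g⁻¹ = 1 := fun g => by
    rw [← hmul, mul_inv_cancel]
    simp only [hX, map_one]
    exact LinearMap.toMatrix'_id
  have hone' : ∀ g, X g⁻¹ * X g = 1 := fun g => by simpa using hone g⁻¹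
  have hap : ∀ g v, ρ g v = X g *ᵥ v := fun g v => (LinearMap.toMatrix'_mulVec (ρ g) v).symm
  set H := avgForm X with hH
  have hpos := avgForm_posDef X hone
  rw [← hH] at hpos
  have hdet : IsUnit H.det := (Matrix.isUnit_iff_isUnit_det H).1 hpos.isUnit
  have hJX : ∀ g, J * X g = (X g⁻¹)ᵀ * J := fun g => by
    calc J * X g = ((X g⁻¹)ᵀ * (X g)ᵀ) * (J * X g) := by
          rw [← Matrix.transpose_mul, hone, Matrix.transpose_one, Matrix.one_mul]
      _ = (X g⁻¹)ᵀ * ((X g)ᵀ * J * X g) := by simp only [Matrix.mul_assoc]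
      _ = _ := by rw [hJ g]
  have hHX : ∀ g, H⁻¹ * (X g⁻¹)ᴴ = X g * H⁻¹ := fun g => by
    have h1 : (X g⁻¹)ᴴ * H = H * X g := by
      conv_lhs => rw [hH, ← avgForm_inv X hmul g]
      rw [Matrix.mul_assoc, ← Matrix.mul_assoc, ← Matrix.conjTranspose_mul, hone,
        Matrix.conjTranspose_one, Matrix.one_mul]
    calc H⁻¹ * (X g⁻¹)ᴴ = H⁻¹ * ((X g⁻¹)ᴴ * H) * H⁻¹ := by
          rw [Matrix.mul_assoc, Matrix.mul_assoc (X g⁻¹)ᴴ, Matrix.mul_nonsing_inv _ hdet,
            Matrix.mul_one]
      _ = X g * H⁻¹ := by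
          rw [h1, ← Matrix.mul_assoc, Matrix.nonsing_inv_mul _ hdet, Matrix.one_mul]
  set C : (Fin n → ℂ) → (Fin n → ℂ) := fun v => H⁻¹ *ᵥ star (J *ᵥ v) with hC
  have hadd : ∀ v w, C (v + w) = C v + C w := fun v w => by
    simp only [hC, Matrix.mulVec_add, star_add]
  have hsmul : ∀ (c : ℂ) v, C (c • v) = conj c • C v := fun c v => by
    simp only [hC, Matrix.mulVec_smul, star_smul]
    rfl
  have hcomm : ∀ g v, C (ρ g v) = ρ g (C v) := fun g v => by
    rw [hap, hap]
    simp only [hC]
    rw [Matrix.mulVec_mulVec, hJX, ← Matrix.mulVec_mulVec, star_transpose_mulVec,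
      Matrix.mulVec_mulVec, hHX, ← Matrix.mulVec_mulVec]
  let T : (Fin n → ℂ) →ₗ[ℂ] (Fin n → ℂ) :=
    { toFun := fun v => C (C v)
      map_add' := fun v w => by rw [hadd, hadd]
      map_smul' := fun c v => by rw [hsmul, hsmul, Complex.conj_conj, RingHom.id_apply] }
  obtain ⟨c, hc⟩ := Characters.schur_scalar ρ T fun g v => by
    show C (C (ρ g v)) = ρ g (C (C v))
    rw [hcomm, hcomm]
  have hCC : ∀ v, C (C v) = c • v := fun v => by
    have := LinearMap.congr_fun hc v
    simpa [T] using this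
  have hform : ∀ v w, star (C v) ⬝ᵥ (H *ᵥ w) = (J *ᵥ v) ⬝ᵥ w := fun v w => by
    rw [Matrix.dotProduct_mulVec]
    congr 1
    have hstar : star (C v) ᵥ* H = star (Hᴴ *ᵥ C v) := by
      rw [Matrix.star_mulVec Hᴴ, Matrix.conjTranspose_conjTranspose]
    rw [hstar, hpos.isHermitian.eq]
    simp only [hC]
    rw [Matrix.mulVec_mulVec, Matrix.mul_nonsing_inv _ hdet, Matrix.one_mulVec, star_star]
  have hswap : ∀ v w, star (C v) ⬝ᵥ (H *ᵥ w) = star (C w) ⬝ᵥ (H *ᵥ v) := fun v w => by
    rw [hform, hform, dotProduct_comm, Matrix.dotProduct_mulVec, ← hJT,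
      Matrix.vecMul_transpose, hJT]
  obtain ⟨v, hv⟩ : ∃ v, C v ≠ 0 := by
    by_contra h
    push Not at h
    refine hJ0 (Matrix.mulVec_injective (funext fun w => ?_))
    have := congrArg (fun u => star (H *ᵥ u)) (h w)
    simp only [hC, Matrix.mulVec_mulVec, Matrix.mul_nonsing_inv _ hdet, Matrix.one_mulVec,
      star_star, Matrix.mulVec_zero, star_zero] at this
    rw [this, Matrix.zero_mulVec]
  have hv0 : v ≠ 0 := fun h => hv (by rw [h]; have := hsmul 0 0; simpa using this)
  have hq : conj c * (star v ⬝ᵥ (H *ᵥ v)) = star (C v) ⬝ᵥ (H *ᵥ C v) := by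
    rw [hswap v (C v), hCC, star_smul, smul_dotProduct]
    rfl
  have hp1 := hpos.dotProduct_mulVec_pos hv0
  have hp2 := hpos.dotProduct_mulVec_pos hv
  rw [← hq] at hp2
  rw [Complex.lt_def] at hp1 hp2
  simp only [Complex.zero_re, Complex.zero_im, Complex.mul_re, Complex.mul_im, Complex.conj_re,
    Complex.conj_im] at hp1 hp2
  rw [← hp1.2, mul_zero, sub_zero] at hp2
  have hcim : c.im = 0 := by
    have h := hp2.2
    simp only [mul_zero, zero_add, neg_mul, zero_eq_neg, mul_eq_zero] at h
    exact h.resolve_right hp1.1.ne'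
  have hcre : 0 < c.re := pos_of_mul_pos_left hp2.1 hp1.1.le
  set s : ℂ := ((Real.sqrt c.re : ℝ) : ℂ)⁻¹ with hs
  have hsc : conj s = s := by rw [hs, map_inv₀, Complex.conj_ofReal]
  refine exists_real_rep ρ (fun v => s • C v) (fun v w => by rw [hadd, smul_add])
    (fun a v => by rw [hsmul, smul_comm]) (fun w => ?_) (fun g v => by rw [hcomm, map_smul])
  rw [hsmul, hsc, hCC, smul_smul, smul_smul, hs, ← mul_inv, ← Complex.ofReal_mul,
    Real.mul_self_sqrt hcre.le, show c = ((c.re : ℝ) : ℂ) from Complex.ext rfl (by simp [hcim]),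
    Complex.ofReal_re, inv_mul_cancel₀ (Complex.ofReal_ne_zero.2 hcre.ne'), one_smul]

/-- A real irreducible representation has indicator one. -/
theorem indicator_one_of_real_rep (χ : Cfsg.IrrCharacter G) {m : ℕ}
    (σ : Representation ℝ G (Fin m → ℝ))
    (hσ : ∀ g : G, ((LinearMap.trace ℝ (Fin m → ℝ) (σ g) : ℝ) : ℂ) = (χ : G → ℂ) g) :
    (Nat.card G : ℂ)⁻¹ * ∑ s : G, (χ : G → ℂ) (s * s) = 1 := by
  classical
  set R : G → Matrix (Fin m) (Fin m) ℂ :=
    fun g => (LinearMap.toMatrix' (σ g)).map ((↑) : ℝ → ℂ) with hR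
  have hmap : ∀ A B : Matrix (Fin m) (Fin m) ℝ, (A * B).map ((↑) : ℝ → ℂ) =
      A.map ((↑) : ℝ → ℂ) * B.map ((↑) : ℝ → ℂ) := fun A B => by
    ext i j; simp [Matrix.mul_apply]
  let ρ : Representation ℂ G (Fin m → ℂ) :=
    { toFun := fun g => Matrix.toLin' (R g)
      map_one' := by
        simp only [hR, map_one]
        rw [show LinearMap.toMatrix' (1 : Module.End ℝ (Fin m → ℝ)) = 1 from
          LinearMap.toMatrix'_id, Matrix.map_one _ Complex.ofReal_zero Complex.ofReal_one,
          Matrix.toLin'_one]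
        rfl
      map_mul' := fun g h => by
        simp only [hR, map_mul, LinearMap.toMatrix'_mul, hmap, Matrix.toLin'_mul]
        rfl }
  have hm : ∀ g, LinearMap.toMatrix' (ρ g) = R g := fun g => LinearMap.toMatrix'_toLin' _
  have hchar : ρ.character = (χ : G → ℂ) := funext fun g => by
    rw [char_eq_trace, hm, ← hσ, LinearMap.trace_eq_matrix_trace ℝ (Pi.basisFun ℝ (Fin m)),
      LinearMap.toMatrix_eq_toMatrix', Matrix.trace, Complex.ofReal_sum]
    rfl
  have hirr : ρ.IsIrreducible := by
    rw [Characters.isIrreducible_iff_classInner, hchar]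
    exact Characters.classInner_isIrr_self χ.2
  haveI := hirr
  have hreal : ∀ g : G, (ρ.character g).im = 0 := fun g => by
    rw [hchar, ← hσ, Complex.ofReal_im]
  obtain ⟨-, hsym⟩ := invariant_forms ρ hirr hreal
  have hone : ∀ g, R g * R g⁻¹ = 1 := fun g => by
    rw [← hm, ← hm, ← LinearMap.toMatrix'_mul, ← map_mul, mul_inv_cancel, map_one]
    exact LinearMap.toMatrix'_id
  have hstar : ∀ g, (R g)ᴴ = (R g)ᵀ := fun g => by
    ext i j; simp [hR]
  have hM := hsym (avgForm R) fun g => by
    rw [hm, ← hstar]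
    exact avgForm_inv R (fun a b => by rw [← hm, ← hm, ← hm, map_mul, LinearMap.toMatrix'_mul]) g
  rw [hchar, avgForm, Matrix.transpose_sum] at hM
  simp only [hstar, Matrix.transpose_mul, Matrix.transpose_transpose] at hM
  have hne : (∑ g : G, (R g)ᵀ * R g) ≠ 0 := by
    intro h0
    have hp := avgForm_posDef R hone
    simp only [avgForm, hstar, h0] at hp
    haveI := Characters.nontrivial_of_isIrreducible ρ
    obtain ⟨x, hx⟩ := exists_ne (0 : Fin m → ℂ)
    simpa using hp.dotProduct_mulVec_pos hx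
  have h2 : (1 : ℂ) • (∑ g : G, (R g)ᵀ * R g) =
      ((Nat.card G : ℂ)⁻¹ * ∑ s : G, (χ : G → ℂ) (s * s)) • (∑ g : G, (R g)ᵀ * R g) := by
    rw [one_smul]; exact hM
  exact (smul_left_injective ℂ hne h2).symm

end CfsgLib.InvolutionCount
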