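import Cfsg.Agent.InvolutionCount.Basic
import Cfsg.Agent.Characters.FixedPoints
import Cfsg.Agent.Solvable.Frattini
import Mathlib.GroupTheory.PGroup

/-!
# 2-groups whose number of involutions is 1 modulo 4
-/

set_option autoImplicit false
set_option linter.style.haveILetI false
set_option linter.unusedSectionVars false

namespace CfsgLib.InvolutionCount

open Cfsg
open scoped ComplexConjugate

universe u

variable {G : Type u} [Group G] [Fintype G]

theorem isIrr_lin_mul (f : G →* ℂˣ) (χ : Cfsg.IrrCharacter G) :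
    Cfsg.IsIrrCharacter G ((fun g => ((f g : ℂˣ) : ℂ)) * (χ : G → ℂ)) := by
  refine Characters.isIrr_of_classInner_self (Characters.isCharacter_mul
    (Characters.isCharacter_of_isIrr (Characters.isIrr_linChar f))
    (Characters.isCharacter_of_isIrr χ.2)) ?_
  rw [← Characters.classInner_isIrr_self χ.2, Cfsg.classInner, Cfsg.classInner]
  congr 1
  refine Finset.sum_congr rfl fun g _ => ?_
  rw [Pi.mul_apply, map_mul, ← Characters.character_inv (χ := fun g => ((f g : ℂˣ) : ℂ))
    (Characters.isCharacter_of_isIrr (Characters.isIrr_linChar f)) g, mul_mul_mul_comm,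
    ← Units.val_mul, ← map_mul, mul_inv_cancel, map_one, Units.val_one, one_mul]

theorem linearCharEquiv_coe (f : G →* ℂˣ) :
    (((Characters.linearCharEquiv f : {χ : Cfsg.IrrCharacter G // (χ : G → ℂ) 1 = 1}) :
      Cfsg.IrrCharacter G) : G → ℂ) = fun g => ((f g : ℂˣ) : ℂ) := rfl

theorem finite_dual : Finite (G →* ℂˣ) :=
  Finite.of_equiv _ (Characters.linearCharEquiv (G := G)).symm

theorem isPGroup_dual (hG : IsPGroup 2 G) : IsPGroup 2 (G →* ℂˣ) := by
  obtain ⟨k, hk⟩ := IsPGroup.iff_card.1 hG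
  exact fun f => ⟨k, MonoidHom.ext fun g => by
    rw [MonoidHom.pow_apply, ← map_pow, ← hk, pow_card_eq_one', map_one,
      MonoidHom.one_apply]⟩

/-- A noncyclic 2-group has at least three real linear characters, hence a multiple of four. -/
theorem four_dvd_card_real_linear (hG : IsPGroup 2 G) (hc : ¬ IsCyclic G) :
    4 ∣ Nat.card {f : G →* ℂˣ // f ^ 2 = 1} := by
  classical
  haveI := finite_dual (G := G)
  haveI : Nontrivial G := by
    by_contra h
    rw [not_nontrivial_iff_subsingleton] at h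
    exact hc inferInstance
  have hsign : ∀ M : Subgroup G, IsCoatom M → ∃ f : G →* ℂˣ, f ^ 2 = 1 ∧ ∀ g, f g = 1 ↔ g ∈ M := by
    intro M hM
    have hidx := Solvable.index_coatom hG hM
    refine ⟨{ toFun := fun g => if g ∈ M then 1 else -1, map_one' := if_pos M.one_mem,
              map_mul' := fun a b => ?_ }, ?_, fun g => ?_⟩
    · have := Subgroup.mul_mem_iff_of_index_two hidx (a := a) (b := b)
      by_cases ha : a ∈ M <;> by_cases hb : b ∈ M <;> simp [this, ha, hb]
    · refine MonoidHom.ext fun g => ?_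
      simp only [MonoidHom.pow_apply, MonoidHom.coe_mk, OneHom.coe_mk,
        MonoidHom.one_apply]
      split_ifs <;> simp
    · simp only [MonoidHom.coe_mk, OneHom.coe_mk]
      split_ifs with h
      · simp [h]
      · simp only [h, iff_false]
        intro e
        have := congrArg (fun u : ℂˣ => (u : ℂ)) e
        norm_num at this
  have htop : ∀ x : G, ∃ M : Subgroup G, IsCoatom M ∧ x ∈ M := fun x => by
    rcases eq_top_or_exists_le_coatom (Subgroup.zpowers x) with h | ⟨M, hM, hle⟩
    · exact absurd (isCyclic_iff_exists_zpowers_eq_top.2 ⟨x, h⟩) hc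
    · exact ⟨M, hM, hle (Subgroup.mem_zpowers x)⟩
  obtain ⟨M₁, hM₁, -⟩ := htop 1
  obtain ⟨x, hx⟩ : ∃ x, x ∉ M₁ := by
    by_contra h
    push Not at h
    exact hM₁.1 (top_unique fun y _ => h y)
  obtain ⟨M₂, hM₂, hx₂⟩ := htop x
  obtain ⟨f₁, h₁, h₁'⟩ := hsign M₁ hM₁
  obtain ⟨f₂, h₂, h₂'⟩ := hsign M₂ hM₂
  let K : Subgroup (G →* ℂˣ) := (powMonoidHom 2).ker
  have hK : Nat.card {f : G →* ℂˣ // f ^ 2 = 1} = Nat.card K :=
    Nat.card_congr (Equiv.subtypeEquivRight fun f => by simp [K])
  rw [hK]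
  obtain ⟨m, hm⟩ := IsPGroup.iff_card.1 ((isPGroup_dual hG).to_subgroup K)
  have h3 : 3 ≤ Nat.card K := by
    haveI := Fintype.ofFinite K
    rw [Nat.card_eq_fintype_card, ← Finset.card_univ]
    have hf₁ : f₁ ∈ K := by simp [K, h₁]
    have hf₂ : f₂ ∈ K := by simp [K, h₂]
    refine le_trans ?_ (Finset.card_le_univ {(1 : K), ⟨f₁, hf₁⟩, ⟨f₂, hf₂⟩})
    refine le_of_eq (Finset.card_eq_three.2 ⟨_, _, _, ?_, ?_, ?_, rfl⟩).symm
    · intro e
      have e' : (1 : G →* ℂˣ) = f₁ := congrArg Subtype.val e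
      exact hM₁.1 (top_unique fun y _ => (h₁' y).1 (by rw [← e', MonoidHom.one_apply]))
    · intro e
      have e' : (1 : G →* ℂˣ) = f₂ := congrArg Subtype.val e
      exact hM₂.1 (top_unique fun y _ => (h₂' y).1 (by rw [← e', MonoidHom.one_apply]))
    · intro e
      have e' : f₁ = f₂ := congrArg Subtype.val e
      exact hx ((h₁' x).1 (e' ▸ (h₂' x).2 hx₂))
  rw [hm] at h3 ⊢
  refine pow_dvd_pow 2 (?_ : 2 ≤ m)
  by_contra hlt
  interval_cases m <;> simp at h3

open Classical in
/-- The degree two characters of a noncyclic 2-group with `t ≡ 1` modulo 4 are odd in number. -/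
theorem odd_card_degree_two (hG : IsPGroup 2 G) (hc : ¬ IsCyclic G)
    (ht : Nat.card {x : G // orderOf x = 2} % 4 = 1) :
    ¬ 2 ∣ Nat.card {χ : Cfsg.IrrCharacter G // Cfsg.charDegree (χ : G → ℂ) = 2} := by
  have hε : ∀ χ : Cfsg.IrrCharacter G, ∃ e : ℤ, SquareRoots.indicator (χ : G → ℂ) = (e : ℂ) ∧
      (e = 0 ∨ e = 1 ∨ e = -1) := fun χ => by
    rcases SquareRoots.indicator_cases χ.2 with h | h | h
    · exact ⟨0, by simpa using h, by simp⟩
    · exact ⟨1, by simpa using h, by simp⟩
    · exact ⟨-1, by simpa using h, by simp⟩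
  choose e he he' using hε
  set d : Cfsg.IrrCharacter G → ℕ := fun χ => Cfsg.charDegree (χ : G → ℂ) with hd
  have hsum : ((Nat.card {x : G // orderOf x = 2} : ℤ) + 1) = ∑ χ, e χ * (d χ : ℤ) := by
    have h := involution_sum (G := G)
    simp only [he, ← Blocks.charDegree_cast] at h
    exact_mod_cast h
  obtain ⟨k, hk⟩ := IsPGroup.iff_card.1 hG
  have hdeg : ∀ χ, d χ ≠ 1 → d χ ≠ 2 → (4 : ℤ) ∣ e χ * (d χ : ℤ) := by
    intro χ h1 h2
    obtain ⟨j, -, hj⟩ := (Nat.dvd_prime_pow Nat.prime_two).1 (hk ▸ Blocks.charDegree_dvd_card χ)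
    have h2j : 2 ≤ j := by
      by_contra hlt
      have : j = 0 ∨ j = 1 := by omega
      rcases this with rfl | rfl <;> simp [hd, hj] at h1 h2
    refine Dvd.dvd.mul_left ?_ _
    rw [show d χ = 2 ^ j from hj]
    exact_mod_cast pow_dvd_pow 2 h2j
  set S₁ : Finset (Cfsg.IrrCharacter G) := Finset.univ.filter fun χ => d χ = 1 with hS₁
  set S₂ : Finset (Cfsg.IrrCharacter G) := Finset.univ.filter fun χ => d χ = 2 with hS₂
  -- the linear part
  have hlin : (4 : ℤ) ∣ ∑ χ ∈ S₁, e χ := by
    have hL : ∑ χ ∈ S₁, e χ = (Nat.card {f : G →* ℂˣ // f ^ 2 = 1} : ℤ) := by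
      haveI := finite_dual (G := G)
      haveI := Fintype.ofFinite (G →* ℂˣ)
      rw [Nat.card_eq_fintype_card, Fintype.card_subtype, ← Finset.sum_boole]
      refine (Finset.sum_bij (fun f _ => ((Characters.linearCharEquiv f :
        {χ : Cfsg.IrrCharacter G // (χ : G → ℂ) 1 = 1}) : Cfsg.IrrCharacter G)) ?_ ?_ ?_ ?_).symm
      · intro f _
        refine Finset.mem_filter.2 ⟨Finset.mem_univ _, ?_⟩
        have h := (Characters.linearCharEquiv f).2
        rw [← Blocks.charDegree_cast] at h
        exact_mod_cast h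
      · exact fun a _ b _ h => Characters.linearCharEquiv.injective (Subtype.ext h)
      · intro χ hχ
        have h1 : (χ : G → ℂ) 1 = 1 := by
          rw [← Blocks.charDegree_cast, show Cfsg.charDegree (χ : G → ℂ) = 1 from
            (Finset.mem_filter.1 hχ).2, Nat.cast_one]
        exact ⟨Characters.linearCharEquiv.symm ⟨χ, h1⟩, Finset.mem_univ _, by simp⟩
      · intro f _
        have h := he (Characters.linearCharEquiv f : {χ : Cfsg.IrrCharacter G //
          (χ : G → ℂ) 1 = 1})
        refine Int.cast_injective (α := ℂ) ?_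
        rw [← h]
        have hval : SquareRoots.indicator ((((Characters.linearCharEquiv f :
            {χ : Cfsg.IrrCharacter G // (χ : G → ℂ) 1 = 1}) : Cfsg.IrrCharacter G)) : G → ℂ) =
            Cfsg.classInner (fun g => (((f ^ 2) g : ℂˣ) : ℂ)) (fun _ => 1) := by
          rw [SquareRoots.indicator, finsum_eq_sum_of_fintype, Cfsg.classInner]
          simp [linearCharEquiv_coe, pow_two]
        rw [hval]
        by_cases hf : f ^ 2 = 1
        · rw [if_pos hf, hf, Int.cast_one]
          simpa using (Characters.classInner_isIrr_self (isPrincipal_one (G := G))).symm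
        · rw [if_neg hf, Int.cast_zero, Characters.classInner_isIrr_ne
            (Characters.isIrr_linChar _) isPrincipal_one]
          exact fun h => hf (MonoidHom.ext fun g => Units.ext (congrFun h g))
    rw [hL]
    exact_mod_cast four_dvd_card_real_linear hG hc
  have hsplit : ∑ χ, e χ * (d χ : ℤ) = ∑ χ ∈ S₁, e χ + 2 * ∑ χ ∈ S₂, e χ +
      ∑ χ, (if d χ = 1 ∨ d χ = 2 then 0 else e χ * (d χ : ℤ)) := by
    rw [hS₁, hS₂, Finset.sum_filter, Finset.sum_filter, Finset.mul_sum, ← Finset.sum_add_distrib,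
      ← Finset.sum_add_distrib]
    refine Finset.sum_congr rfl fun χ _ => ?_
    by_cases h1 : d χ = 1
    · simp [h1]
    · by_cases h2 : d χ = 2
      · simp [h2, mul_comm]
      · simp [h1, h2]
  have hrest : (4 : ℤ) ∣ ∑ χ, (if d χ = 1 ∨ d χ = 2 then 0 else e χ * (d χ : ℤ)) :=
    Finset.dvd_sum fun χ _ => by
      split_ifs with h
      · exact dvd_zero _
      · push Not at h
        exact hdeg χ h.1 h.2
  have hodd : ¬ (2 : ℤ) ∣ ∑ χ ∈ S₂, e χ := by
    intro h
    obtain ⟨a, ha⟩ := h
    obtain ⟨b, hb⟩ := hlin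
    obtain ⟨c, hc'⟩ := hrest
    rw [hsplit, ha, hb, hc'] at hsum
    omega
  -- non-real characters of degree two come in conjugate pairs
  intro hD
  refine hodd ?_
  have hpar : ∀ χ, (2 : ℤ) ∣ e χ - (if ∀ g : G, ((χ : G → ℂ) g).im = 0 then 1 else 0) := by
    intro χ
    split_ifs with hr
    · rcases SquareRoots.indicator_of_real χ.2 hr with h | h <;> rw [he] at h
      · rw [show e χ = 1 from Int.cast_injective (α := ℂ) (by simpa using h)]
        norm_num
      · rw [show e χ = -1 from Int.cast_injective (α := ℂ) (by simpa using h)]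
        norm_num
    · have h := SquareRoots.indicator_eq_zero_of_not_real χ.2 hr
      rw [he] at h
      rw [show e χ = 0 from Int.cast_injective (α := ℂ) (by simpa using h)]
      norm_num
  have h1 : (2 : ℤ) ∣ ∑ χ ∈ S₂, e χ -
      ∑ χ ∈ S₂, (if ∀ g : G, ((χ : G → ℂ) g).im = 0 then (1 : ℤ) else 0) := by
    rw [← Finset.sum_sub_distrib]
    exact Finset.dvd_sum fun χ _ => hpar χ
  have h2 : (2 : ℤ) ∣ ∑ χ ∈ S₂, (if ∀ g : G, ((χ : G → ℂ) g).im = 0 then (1 : ℤ) else 0) -
      ∑ _χ ∈ S₂, (1 : ℤ) := by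
    rw [← Finset.sum_sub_distrib]
    refine (ZMod.intCast_zmod_eq_zero_iff_dvd _ 2).1 ?_
    rw [Int.cast_sum]
    refine Finset.sum_involution (fun χ _ => ⟨fun g => conj ((χ : G → ℂ) g),
      Characters.isIrr_conj χ.2⟩) ?_ ?_ ?_ ?_
    · intro χ _
      simp only [Complex.conj_im, neg_eq_zero]
      split_ifs <;> decide
    · intro χ _ hne heq
      rw [if_pos fun g => Complex.conj_eq_iff_im.1
        (congrFun (congrArg Subtype.val heq) g)] at hne
      exact hne (by norm_num)
    · intro χ hχ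
      simp only [hS₂, Finset.mem_filter, Finset.mem_univ, true_and, hd] at hχ ⊢
      have h : ((2 : ℕ) : ℂ) = (χ : G → ℂ) 1 := by rw [← hχ, Blocks.charDegree_cast]
      have h' := Blocks.charDegree_cast (⟨fun g => conj ((χ : G → ℂ) g),
        Characters.isIrr_conj χ.2⟩ : Cfsg.IrrCharacter G)
      simp only [← h, Complex.conj_natCast] at h'
      exact_mod_cast h'
    · intro χ _
      exact Subtype.ext (funext fun g => Complex.conj_conj _)
  have h3 : (∑ _χ ∈ S₂, (1 : ℤ)) =
      (Nat.card {χ : Cfsg.IrrCharacter G // Cfsg.charDegree (χ : G → ℂ) = 2} : ℤ) := by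
    rw [Nat.card_eq_fintype_card, Fintype.card_subtype, Finset.sum_const, nsmul_eq_mul, mul_one]
  rw [h3] at h2
  have hD' : (2 : ℤ) ∣ (Nat.card {χ : Cfsg.IrrCharacter G //
      Cfsg.charDegree (χ : G → ℂ) = 2} : ℤ) := by exact_mod_cast hD
  omega

/-- Multiplication by linear characters, on the characters of degree two. -/
@[instance_reducible]
noncomputable def linAction :
    MulAction (G →* ℂˣ) {χ : Cfsg.IrrCharacter G // Cfsg.charDegree (χ : G → ℂ) = 2} where
  smul f χ := ⟨⟨_, isIrr_lin_mul f χ.1⟩, by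
    have h := Blocks.charDegree_cast (⟨_, isIrr_lin_mul f χ.1⟩ : Cfsg.IrrCharacter G)
    simp only [Pi.mul_apply, map_one, Units.val_one, one_mul, ← Blocks.charDegree_cast χ.1] at h
    rw [χ.2] at h
    exact_mod_cast h⟩
  one_smul χ := Subtype.ext (Subtype.ext (funext fun g => by
    show ((1 : G →* ℂˣ) g : ℂ) * (χ.1 : G → ℂ) g = _
    simp))
  mul_smul f f' χ := Subtype.ext (Subtype.ext (funext fun g => by
    show ((f * f') g : ℂ) * (χ.1 : G → ℂ) g = (f g : ℂ) * ((f' g : ℂ) * (χ.1 : G → ℂ) g)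
    simp [mul_assoc]))

/-- A 2-group with `t ≡ 1` modulo 4 involutions is cyclic or has abelianisation of order four. -/
theorem cyclic_or_index_four (hG : IsPGroup 2 G)
    (ht : Nat.card {x : G // orderOf x = 2} % 4 = 1) :
    IsCyclic G ∨ (commutator G).index = 4 := by
  classical
  by_cases hc : IsCyclic G
  · exact Or.inl hc
  right
  haveI := finite_dual (G := G)
  haveI := Fintype.ofFinite (G →* ℂˣ)
  haveI := Fact.mk Nat.prime_two
  set L := Nat.card (G →* ℂˣ) with hL
  have hLc : (commutator G).index = L := by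
    rw [← Characters.card_linear_char, hL, Nat.card_congr (Characters.linearCharEquiv (G := G))]
  rw [hLc]
  refine le_antisymm ?_ ?_
  · letI := linAction (G := G)
    obtain ⟨⟨χ, hχ⟩, hfix⟩ := (isPGroup_dual hG).nonempty_fixed_point_of_prime_not_dvd_card
      {χ : Cfsg.IrrCharacter G // Cfsg.charDegree (χ : G → ℂ) = 2} (odd_card_degree_two hG hc ht)
    set θ : G → ℂ := (χ : G → ℂ) * fun g => conj ((χ : G → ℂ) g) with hθ
    have hθc : Cfsg.IsCharacter G θ := Characters.isCharacter_mul
      (Characters.isCharacter_of_isIrr χ.2)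
      (Characters.isCharacter_conj (Characters.isCharacter_of_isIrr χ.2))
    obtain ⟨l, hl⟩ := Characters.exists_nat_coeff hθc
    set Λ : (G →* ℂˣ) → Cfsg.IrrCharacter G := fun f => (Characters.linearCharEquiv f :
      {χ : Cfsg.IrrCharacter G // (χ : G → ℂ) 1 = 1}) with hΛ
    have hinj : Function.Injective Λ := fun a b h =>
      Characters.linearCharEquiv.injective (Subtype.ext h)
    have hmul : ∀ f, l (Λ f) = 1 := by
      intro f
      have h1 : Cfsg.classInner θ (Λ f : G → ℂ) = (l (Λ f) : ℂ) := by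
        rw [hl, Characters.classInner_irr_coeff]
      have h2 : Cfsg.classInner θ (Λ f : G → ℂ) = 1 := by
        have hf := congrArg (fun z : {χ : Cfsg.IrrCharacter G //
          Cfsg.charDegree (χ : G → ℂ) = 2} => ((z.1 : Cfsg.IrrCharacter G) : G → ℂ)) (hfix f)
        change (fun g => ((f g : ℂˣ) : ℂ)) * (χ : G → ℂ) = (χ : G → ℂ) at hf
        rw [← Characters.classInner_isIrr_self χ.2, Cfsg.classInner, Cfsg.classInner]
        congr 1
        refine Finset.sum_congr rfl fun g _ => ?_
        have hg := congrArg conj (congrFun hf g)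
        simp only [Pi.mul_apply, map_mul] at hg
        conv_rhs => rw [← hg]
        simp only [hθ, hΛ, linearCharEquiv_coe, Pi.mul_apply]
        ring
      rw [h2] at h1
      exact_mod_cast h1.symm
    have h4 : ∑ η : Cfsg.IrrCharacter G, l η * Cfsg.charDegree (η : G → ℂ) = 4 := by
      have h := congrFun hl 1
      have h5 : θ 1 = 4 := by
        rw [hθ, Pi.mul_apply, ← Blocks.charDegree_cast, hχ]
        push_cast
        rw [map_ofNat]
        norm_num
      rw [h5, Finset.sum_apply] at h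
      simp only [Pi.smul_apply, smul_eq_mul, ← Blocks.charDegree_cast] at h
      exact_mod_cast h.symm
    rw [hL, Nat.card_eq_fintype_card, ← h4]
    calc Fintype.card (G →* ℂˣ) = ∑ η ∈ Finset.univ.image Λ, 1 := by
          rw [Finset.sum_const, smul_eq_mul, mul_one,
            Finset.card_image_of_injective _ hinj, Finset.card_univ]
      _ ≤ ∑ η ∈ Finset.univ.image Λ, l η * Cfsg.charDegree (η : G → ℂ) := by
          refine Finset.sum_le_sum fun η hη => ?_
          obtain ⟨f, -, rfl⟩ := Finset.mem_image.1 hη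
          rw [hmul, one_mul]
          exact Nat.one_le_iff_ne_zero.2 (Blocks.charDegree_ne_zero _)
      _ ≤ _ := Finset.sum_le_univ_sum_of_nonneg fun _ => Nat.zero_le _
  · refine (Nat.le_of_dvd ?_ (four_dvd_card_real_linear hG hc)).trans
      (Nat.card_le_card_of_injective _ Subtype.val_injective)
    haveI : Nonempty {f : G →* ℂˣ // f ^ 2 = 1} := ⟨⟨1, MonoidHom.ext fun g => by simp⟩⟩
    exact Nat.card_pos

end CfsgLib.InvolutionCount
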